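import Groth.Agent.S0033
import Groth.Agent.Lib.RatSingEuler13.Basic
import Groth.Agent.Lib.Fibration13.Basic
import Groth.Agent.Lib.EdgeOne28.Inj
import Groth.Agent.Lib.BiratPt18.Main
import Groth.Agent.Lib.NormStalk17.Scheme
import Groth.Agent.Lib.PointBlowUp32.Local
import Groth.Agent.Lib.AdmOpen4.Near
import Groth.Agent.Lib.AmpleFin18.PushEuler
import Groth.Agent.Lib.TensorMod.PullSupport
import Groth.Agent.Lib.Twist.Pullback
import Groth.Agent.Lib.LimFun.Basic
import Groth.Prelude.Def_Curv2

/-!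
# Proper birational maps onto schemes with rational singularities
-/

set_option autoImplicit false
set_option linter.style.haveILetI false
set_option linter.unusedSectionVars false
set_option backward.isDefEq.respectTransparency false
set_option backward.isDefEq.respectTransparency.types false
set_option maxHeartbeats 800000

universe u

open CategoryTheory CategoryTheory.Limits AlgebraicGeometry TopologicalSpace Opposite

noncomputable section

namespace Groth.Agent.RatSingMod13

open Groth.Agent CohFound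

variable {X Y : Scheme.{u}}

/-- The localization of a birational modification at a point is a birational modification. -/
theorem local_data (ρ : Y ⟶ X) [IsIntegral X] [IsIntegral Y] (hY : Pi1.IsNormalScheme Y)
    (U : X.Opens) (hU : (U : Set X).Nonempty) (hiso : IsIso (ρ ∣_ U)) (x : X) :
    IsIntegral (pullback ρ (X.fromSpecStalk x)) ∧ Pi1.IsNormalScheme (pullback ρ (X.fromSpecStalk x)) ∧
      ∃ W : (Spec (X.presheaf.stalk x)).Opens, (W : Set (Spec (X.presheaf.stalk x))).Nonempty ∧
        IsIso (pullback.snd ρ (X.fromSpecStalk x) ∣_ W) := by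
  haveI : Flat (X.fromSpecStalk x) := Descend.flat_fromSpecStalk x
  let t := pullback.fst ρ (X.fromSpecStalk x)
  have hgen : (genericPoint X) ∈ U := ((genericPoint_spec X).mem_open_set_iff U.isOpen).2
    (by simpa using hU)
  have hst : ∀ w, IsIso (t.stalkMap w) := fun w =>
    PointBlowUp.isIso_stalkMap_of_flat_preimmersion t w
  have hn : Pi1.IsNormalScheme (pullback ρ (X.fromSpecStalk x)) := fun w => by
    haveI := hst w
    haveI := (hY (t w)).1
    haveI := (hY (t w)).2
    exact ⟨(asIso (t.stalkMap w)).commRingCatIsoToRingEquiv.symm.toMulEquiv.isDomain,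
      IsIntegrallyClosed.of_equiv (asIso (t.stalkMap w)).commRingCatIsoToRingEquiv⟩
  refine ⟨?_, hn, X.fromSpecStalk x ⁻¹ᵁ U, ?_, AdmOpen4.isIso_restrict_baseChange ρ (X.fromSpecStalk x) U _ le_rfl⟩
  · obtain ⟨hg, -⟩ := BiratPt18.birational_of_isIso_restrict ρ U hU hiso
    obtain ⟨s, hs⟩ : genericPoint X ∈ Set.range (X.fromSpecStalk x) := by
      rw [Scheme.range_fromSpecStalk]
      exact genericPoint_specializes x
    obtain ⟨z, hz, -⟩ := Scheme.Pullback.exists_preimage_pullback (f := ρ) (g := X.fromSpecStalk x)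
      (genericPoint Y) s (hg.trans hs.symm)
    haveI : AlgebraicGeometry.IsReduced (pullback ρ (X.fromSpecStalk x)) := NormStalk17.isReduced_of_normal hn
    have hgp : IsGenericPoint z (Set.univ : Set ↥(pullback ρ (X.fromSpecStalk x))) :=
      Set.eq_univ_of_forall fun w => specializes_iff_mem_closure.mp
        (t.isEmbedding.isInducing.specializes_iff.1 (by rw [hz]; exact genericPoint_specializes _))
    haveI : IrreducibleSpace ↥(pullback ρ (X.fromSpecStalk x)) :=
      (irreducibleSpace_def _).mpr hgp.isIrreducible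
    exact isIntegral_of_irreducibleSpace_of_isReduced _
  · obtain ⟨s, hs⟩ : genericPoint X ∈ Set.range (X.fromSpecStalk x) := by
      rw [Scheme.range_fromSpecStalk]
      exact genericPoint_specializes x
    exact ⟨s, by show X.fromSpecStalk x s ∈ U; rw [hs]; exact hgen⟩

/-- Over an affine base, vanishing first cohomology kills the first direct image. -/
theorem isZero_rpushAb_affine {S : Scheme.{u}} [IsAffine S] (f : Y ⟶ S) [QuasiCompact f] [QuasiSeparated f]
    {M : Y.Modules} (hM : Coh.IsQCoh M) (p : ℕ) (h : Subsingleton (Coh.HH Y M p)) :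
    IsZero ((Coh.RpushAb f p).obj (Coh.toAb M)) := by
  refine isZero_rpushAb_of_cover f M hM (fun _ : PUnit.{u + 1} => (⊤ : S.Opens)) (fun _ => isAffineOpen_top S)
    (fun _ => ⟨⟨⟩, trivial⟩) p fun _ => ?_
  obtain ⟨a⟩ := CohFound.nonempty_hc_abF_restrict (f ⁻¹ᵁ (⊤ : S.Opens)).ι M p ⊤
  rw [Scheme.Opens.ι_image_top] at a
  exact @Equiv.subsingleton _ _ a.toEquiv ((CohFound.subsingleton_HH_iff _ _).1 h)

/-- No first direct image over a scheme with rational singularities. -/
theorem isZero_R1 (ρ : Y ⟶ X) [IsProper ρ] [IsIntegral X] [IsIntegral Y] [CompactSpace X] [IsLocallyNoetherian X]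
    (hY : Pi1.IsNormalScheme Y)
    (hrat : ∀ x : X, IsClosed ({x} : Set X) → Curv2.IsRationalSing (X.presheaf.stalk x))
    (hbir : ∃ U : X.Opens, (U : Set X).Nonempty ∧ IsIso (ρ ∣_ U)) :
    IsZero ((Coh.RpushAb ρ 1).obj (Coh.toAb (Coh.structureModule Y))) := by
  haveI : IsLocallyNoetherian Y := LocallyOfFiniteType.isLocallyNoetherian ρ
  haveI : HasInjectiveResolutions Y.Modules := CohFound.hasInjectiveResolutions_modules _
  have hR : Coh.IsCoh ((Coh.Rpush ρ 1).obj (Coh.structureModule Y)) :=
    CohFound.isCoh_rpush ρ (M1.isCoh_structureModule _) 1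
  refine RatSingEuler13.isZero_rpushAb_of_rpush ρ _ 1 (Snapper.isZero_of_support_empty ?_)
  by_contra hne
  obtain ⟨x, hxS, hx⟩ := (M1.isClosed_support hR.2).exists_closed_singleton
    (Set.nonempty_iff_ne_empty.2 hne)
  obtain ⟨U, hU, hiso⟩ := hbir
  obtain ⟨hi, hn, hb⟩ := local_data ρ hY U hU hiso x
  haveI := hi
  let t := pullback.fst ρ (X.fromSpecStalk x)
  let s := pullback.snd ρ (X.fromSpecStalk x)
  have hH : Subsingleton (Coh.HH _ (Coh.structureModule (pullback ρ (X.fromSpecStalk x))) 1) :=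
    hrat x hx _ s inferInstance hi hn hb
  haveI : HasInjectiveResolutions (pullback ρ (X.fromSpecStalk x)).Modules := CohFound.hasInjectiveResolutions_modules _
  haveI : Flat (X.fromSpecStalk x) := Descend.flat_fromSpecStalk x
  haveI := M1.isQCoh_structureModule Y
  obtain ⟨e⟩ := Groth.Agent.S0033.result ρ (X.fromSpecStalk x) t s (IsPullback.of_hasPullback _ _)
    (Coh.structureModule Y) 1
  have hz : IsZero ((Coh.Rpush s 1).obj (Coh.structureModule (pullback ρ (X.fromSpecStalk x)))) :=
    RatSingEuler13.isZero_rpush_of_rpushAb s _ 1 (isZero_rpushAb_affine s (M1.isQCoh_structureModule _) 1 hH)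
  have hzero : IsZero ((Scheme.Modules.pullback (X.fromSpecStalk x)).obj ((Coh.Rpush ρ 1).obj (Coh.structureModule Y))) :=
    (hz.of_iso ((Coh.Rpush s 1).mapIso (Twist.pullbackUnitIso t))).of_iso e
  have hsupp := M2.support_pullback (X.fromSpecStalk x) hR.1 hR.2
  have hmem : IsLocalRing.closedPoint (X.presheaf.stalk x) ∈
      CohB1.support ((Scheme.Modules.pullback (X.fromSpecStalk x)).obj ((Coh.Rpush ρ 1).obj (Coh.structureModule Y))) := by
    rw [hsupp]
    show X.fromSpecStalk x (IsLocalRing.closedPoint (X.presheaf.stalk x)) ∈ CohB1.support ((Coh.Rpush ρ 1).obj (Coh.structureModule Y))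
    rw [Scheme.fromSpecStalk_closedPoint]
    exact hxS
  rw [LimFun.support_eq_empty_of_isZero hzero] at hmem
  exact hmem

/-- Cohomology of a direct image without higher direct images up to the degree, linearly over the base. -/
theorem nonempty_HH_push {A : Type u} [CommRing A] [X.Over (Spec (CommRingCat.of A))] [Y.Over (Spec (CommRingCat.of A))]
    (f : Y ⟶ X) (hf : f ≫ (X ↘ Spec (CommRingCat.of A)) = Y ↘ Spec (CommRingCat.of A))
    {B : Set (Opens (sp X))} (hB : Opens.IsBasis B) (M : Y.Modules) (n : ℕ)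
    (hac : PushAcyclicUpTo (f.base : sp Y ⟶ sp X) B n ((abF Y).obj M)) :
    Nonempty (Coh.HH X ((Scheme.Modules.pushforward f).obj M) n ≃ₗ[A] Coh.HH Y M n) := by
  let φ : A →+* Γ(X, ⊤) := Coh.toGlobal (X ↘ Spec (CommRingCat.of A))
  let ψ : A →+* Γ(Y, ⊤) := Coh.toGlobal (Y ↘ Spec (CommRingCat.of A))
  have hψ : ∀ a, f.appTop (φ a) = ψ a := fun a => by
    have h := ConcreteCategory.congr_hom (congrArg Scheme.Hom.appTop hf)
      ((Scheme.ΓSpecIso (CommRingCat.of A)).inv a)
    exact h
  obtain ⟨ε, hε⟩ := exists_hc_push_commute (f.base : sp Y ⟶ sp X) hB n ((abF Y).obj M) hac ⊤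
  let T := (mpEquiv (abFPushIso f M) n ⊤).trans ε
  have hT : ∀ a x, T (gMul ((Scheme.Modules.pushforward f).obj M) (φ a) n ⊤ x) = gMul M (ψ a) n ⊤ (T x) := fun a x => by
    rw [← hψ a]
    exact trans_commute (abFPushIso f M) n ⊤ ε _ _ _ (abFPushIso_gEnd f M (φ a)) (hε (gEnd M (f.appTop (φ a)))) x
  let E : Coh.HH X ((Scheme.Modules.pushforward f).obj M) n ≃+ Coh.HH Y M n :=
    (hhExt _ n).trans (T.trans (hhExt M n).symm)
  refine ⟨{ E with map_smul' := fun a x => ?_ }⟩
  show E (a • x) = a • E x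
  apply (hhExt M n).injective
  simp only [E, AddEquiv.trans_apply, AddEquiv.apply_symm_apply]
  have h1 : hhExt ((Scheme.Modules.pushforward f).obj M) n (a • x) =
      gMul ((Scheme.Modules.pushforward f).obj M) (φ a) n ⊤ (hhExt _ n x) :=
    hExt_map (gEnd _ (φ a)) n x
  have h2 : hhExt M n (a • (hhExt M n).symm (T (hhExt _ n x))) =
      gMul M (ψ a) n ⊤ (hhExt M n ((hhExt M n).symm (T (hhExt _ n x)))) :=
    hExt_map (gEnd M (ψ a)) n _
  refine (congrArg (fun z => hhExt M n ((hhExt M n).symm (T z))) h1).trans ?_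
  exact ((hhExt M n).apply_symm_apply _).trans ((hT a _).trans
    (h2.trans (congrArg (gMul M (ψ a) n ⊤) ((hhExt M n).apply_symm_apply _))).symm)

/-- Without first direct image, first cohomology is that of the direct image. -/
theorem nonempty_HH1_push {A : Type u} [CommRing A] [X.Over (Spec (CommRingCat.of A))] [Y.Over (Spec (CommRingCat.of A))]
    (f : Y ⟶ X) [QuasiCompact f] [QuasiSeparated f]
    (hf : f ≫ (X ↘ Spec (CommRingCat.of A)) = Y ↘ Spec (CommRingCat.of A))
    {M : Y.Modules} (hM : Coh.IsQCoh M) (h : IsZero ((Coh.RpushAb f 1).obj (Coh.toAb M))) :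
    Nonempty (Coh.HH X ((Scheme.Modules.pushforward f).obj M) 1 ≃ₗ[A] Coh.HH Y M 1) := by
  refine nonempty_HH_push f hf X.isBasis_affineOpens M 1 fun q hq V hV => ?_
  obtain rfl : q = 0 := by omega
  obtain ⟨e⟩ := nonempty_sections_rpushAb f hM (0 + 1) hV
  change IsZero ((CohTop.Rpush (f.base : sp Y ⟶ sp X) 1).obj ((abF Y).obj M)) at h
  exact @Equiv.subsingleton _ _ e.toEquiv.symm (AddCommGrpCat.subsingleton_of_isZero
    ((sheafToPresheaf _ _ ⋙ (evaluation _ _).obj (op V)).map_isZero h))

end Groth.Agent.RatSingMod13
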